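import Mathlib.Algebra.Category.Ring.Limits
import Mathlib.Algebra.Category.Ring.Colimits
import Mathlib.RingTheory.Localization.AtPrime.Basic
import Mathlib.RingTheory.Localization.Away.Basic
import Mathlib.CategoryTheory.Filtered.Basic

/-! # The localisation at a prime as a filtered colimit of localisations at elements -/

set_option autoImplicit false

universe u

open CategoryTheory CategoryTheory.Limits

namespace Groth.Agent.H8.LocalBaseRep.Alg

variable {A : CommRingCat.{u}} (p : Ideal A) [p.IsPrime]

/-- Elements outside a prime, ordered by divisibility. -/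
structure Idx : Type u where
  /-- the element -/
  el : A
  mem : el ∉ p

instance preorderIdx : Preorder (Idx p) where
  le a b := a.el ∣ b.el
  le_refl a := dvd_rfl
  le_trans a b c h h' := h.trans h'

instance nonemptyIdx : Nonempty (Idx p) := ⟨⟨1, p.primeCompl.one_mem⟩⟩

instance isDirectedOrderIdx : IsDirectedOrder (Idx p) :=
  ⟨fun a b => ⟨⟨a.el * b.el, p.primeCompl.mul_mem a.mem b.mem⟩, dvd_mul_right _ _, dvd_mul_left _ _⟩⟩

instance isFilteredIdx : IsFiltered (Idx p) := isFiltered_of_directed_le_nonempty (Idx p)

theorem isUnit_of_le {a b : Idx p} (h : a ≤ b) : IsUnit (algebraMap A (Localization.Away b.el) a.el) :=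
  isUnit_of_dvd_unit (map_dvd _ h) (IsLocalization.Away.algebraMap_isUnit b.el)

/-- The transition maps. -/
noncomputable def tr {a b : Idx p} (h : a ≤ b) : Localization.Away a.el →+* Localization.Away b.el :=
  IsLocalization.Away.lift a.el (isUnit_of_le p h)

theorem tr_comp_algebraMap {a b : Idx p} (h : a ≤ b) :
    (tr p h).comp (algebraMap A _) = algebraMap A _ :=
  IsLocalization.Away.lift_comp _ _

theorem away_hom_ext {a : A} {B : CommRingCat.{u}} {f g : CommRingCat.of (Localization.Away a) ⟶ B}
    (h : CommRingCat.ofHom (algebraMap A (Localization.Away a)) ≫ f =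
      CommRingCat.ofHom (algebraMap A (Localization.Away a)) ≫ g) : f = g :=
  CommRingCat.hom_ext (IsLocalization.ringHom_ext (Submonoid.powers a) (congrArg CommRingCat.Hom.hom h))

theorem ofHom_tr {a b : Idx p} (h : a ≤ b) :
    CommRingCat.ofHom (algebraMap A (Localization.Away a.el)) ≫ CommRingCat.ofHom (tr p h) =
      CommRingCat.ofHom (algebraMap A (Localization.Away b.el)) :=
  CommRingCat.hom_ext (tr_comp_algebraMap p h)

/-- The system of localisations. -/
noncomputable def F : Idx p ⥤ CommRingCat.{u} where
  obj a := CommRingCat.of (Localization.Away a.el)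
  map {a b} f := CommRingCat.ofHom (tr p f.le)
  map_id a := away_hom_ext ((ofHom_tr p le_rfl).trans (Category.comp_id _).symm)
  map_comp {a b c} f g := away_hom_ext (by
    rw [← Category.assoc, ofHom_tr, ofHom_tr, ofHom_tr])

/-- The structure maps. -/
noncomputable def ρ : (Functor.const (Idx p)).obj A ⟶ F p where
  app a := CommRingCat.ofHom (algebraMap A (Localization.Away a.el))
  naturality a b f := CommRingCat.hom_ext (tr_comp_algebraMap p f.le).symm

variable (L : Type u) [CommRing L] [Algebra A L] [IsLocalization.AtPrime L p]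

/-- The map of a stage to the local ring. -/
noncomputable def toL (a : Idx p) : Localization.Away a.el →+* L :=
  IsLocalization.Away.lift a.el (g := algebraMap A L) (IsLocalization.map_units L (⟨a.el, a.mem⟩ : p.primeCompl))

theorem ofHom_toL (a : Idx p) :
    CommRingCat.ofHom (algebraMap A (Localization.Away a.el)) ≫ CommRingCat.ofHom (toL p L a) =
      CommRingCat.ofHom (algebraMap A L) :=
  CommRingCat.hom_ext (IsLocalization.Away.lift_comp a.el
    (IsLocalization.map_units L (⟨a.el, a.mem⟩ : p.primeCompl)))

/-- The cocone of the local ring. -/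
noncomputable def cocone : Cocone (F p) where
  pt := CommRingCat.of L
  ι :=
    { app := fun a => CommRingCat.ofHom (toL p L a)
      naturality := fun a b f => away_hom_ext (by
        show CommRingCat.ofHom _ ≫ CommRingCat.ofHom (tr p f.le) ≫ CommRingCat.ofHom (toL p L b) =
          CommRingCat.ofHom _ ≫ CommRingCat.ofHom (toL p L a) ≫ 𝟙 _
        rw [← Category.assoc, ofHom_tr, Category.comp_id, ofHom_toL, ofHom_toL]) }

theorem ρ_app_ι (a : Idx p) :
    (ρ p).app a ≫ (cocone p L).ι.app a = CommRingCat.ofHom (algebraMap A L) :=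
  ofHom_toL p L a

/-- The structure map of a cocone. -/
noncomputable def struct (s : Cocone (F p)) : A →+* s.pt :=
  ((ρ p).app (⟨1, p.primeCompl.one_mem⟩ : Idx p) ≫ s.ι.app _).hom

theorem ρ_app (s : Cocone (F p)) (a : Idx p) : ((ρ p).app a ≫ s.ι.app a).hom = struct p s := by
  have h : (⟨1, p.primeCompl.one_mem⟩ : Idx p) ≤ a := one_dvd a.el
  have hn := (ρ p).naturality (homOfLE h)
  rw [struct, ← s.w (homOfLE h), ← Category.assoc, ← hn]
  simp

/-- The local ring is the colimit. -/
noncomputable def isColimit : IsColimit (cocone p L) :=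
  have hu : ∀ s : Cocone (F p), ∀ y : p.primeCompl, IsUnit (struct p s y) := fun s y => by
    rw [← ρ_app p s ⟨y.1, y.2⟩]
    exact (IsLocalization.Away.algebraMap_isUnit (S := Localization.Away y.1) y.1).map
      (s.ι.app ⟨y.1, y.2⟩).hom
  { desc := fun s => CommRingCat.ofHom (IsLocalization.lift (hu s))
    fac := fun s a => away_hom_ext (by
      show CommRingCat.ofHom _ ≫ CommRingCat.ofHom (toL p L a) ≫ CommRingCat.ofHom _ =
        (ρ p).app a ≫ s.ι.app a
      rw [← Category.assoc, ofHom_toL]
      refine CommRingCat.hom_ext ?_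
      rw [ρ_app]
      exact IsLocalization.lift_comp (hu s))
    uniq := fun s m hm => by
      refine CommRingCat.hom_ext (IsLocalization.ringHom_ext (S := L) p.primeCompl ?_)
      show (CommRingCat.ofHom (algebraMap A L) ≫ m).hom = (IsLocalization.lift (S := L) (hu s)).comp (algebraMap A L)
      rw [IsLocalization.lift_comp, ← ρ_app p s (⟨1, p.primeCompl.one_mem⟩ : Idx p), ← hm,
        ← ρ_app_ι p L ⟨1, p.primeCompl.one_mem⟩]
      exact congrArg CommRingCat.Hom.hom (Category.assoc _ _ _) }

end Groth.Agent.H8.LocalBaseRep.Alg
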