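import Groth.Agent.H8.LocalBaseRep.Mono
import Groth.Agent.H8.LocalBaseRep.Alg
import Groth.Agent.H8.FieldDescent.Main
import Mathlib.AlgebraicGeometry.Stalk
import Mathlib.AlgebraicGeometry.StructureSheaf

/-! # Representability is local on the base at points -/

set_option autoImplicit false
set_option linter.style.haveILetI false
set_option backward.isDefEq.respectTransparency false
set_option backward.isDefEq.respectTransparency.types false

universe u

open CategoryTheory CategoryTheory.Limits AlgebraicGeometry Opposite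
open AlgSp (Sp yon RepWith IsAlgSpace IsQuasiCompactSp IsQuasiSeparatedSp Points)
open Groth.Agent.Lib.Restrict Groth.Agent.Lib Groth.Agent.Lib.AlgSpace
open Groth.Agent.H8.FieldDescent.Stage Groth.Agent.H8.LocalBaseRep.Mono

namespace Groth.Agent.H8.LocalBaseRep.Main

/-- Over an affine open subscheme, representability over a local ring spreads to a basic open. -/
theorem exists_basicOpen {S : Scheme.{u}} {A : CommRingCat.{u}} (j : Spec A ⟶ S) [IsOpenImmersion j]
    (pt : Spec A) {X : Sp S} (hX : IsAlgSpace X) (hqs : IsQuasiSeparatedSp X)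
    [CompactSpace (Points (X ⨯ (yon S).obj (Over.mk j)))]
    (h : (X ⨯ (yon S).obj (Over.mk (S.fromSpecStalk (j pt)))).obj.IsRepresentable) :
    ∃ f : A, f ∉ pt.asIdeal ∧ (X ⨯ (yon S).obj (Over.mk
      (Spec.map (CommRingCat.ofHom (algebraMap A (Localization.Away f))) ≫ j))).obj.IsRepresentable := by
  let L : Type u := (Spec A).presheaf.stalk pt
  letI : Algebra A L := StructureSheaf.stalkAlgebra A pt
  haveI : IsLocalization.AtPrime L pt.asIdeal := StructureSheaf.IsLocalization.to_stalk A pt
  let r : A ⟶ CommRingCat.of L := CommRingCat.ofHom (algebraMap A L)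
  let E' : Over (Spec A) := Over.mk (Spec.map r)
  let Es : Over S := Over.mk (S.fromSpecStalk (j pt))
  let c : (Over.map j).obj E' ≅ Es := Over.isoMk (asIso (Spec.map (j.stalkMap pt))) (by
    show Spec.map (j.stalkMap pt) ≫ S.fromSpecStalk (j pt) = Spec.map r ≫ j
    rw [Scheme.SpecMap_stalkMap_fromSpecStalk, Spec.fromSpecStalk_eq']
    rfl)
  have hX' : IsAlgSpace ((jinv j).obj X) := isAlgSpace_jinv hX
  have hXq : IsQuasiCompactSp ((jinv j).obj X) :=
    isQuasiCompactSp_jinv j (P := X ⨯ (yon S).obj (Over.mk j))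
      (AlgSpace.isAlgSpace_prod hX (IsAlgSpace.yon_obj _)) prod.snd prod.fst (isIso_jinv_fst j X)
  have hr : (bc ((jinv j).obj X) r).obj.IsRepresentable :=
    Groth.Agent.H8.FieldDescent.Main.isRepresentable_of_iso (prodIso j X E')
      (isRepresentable_jinv j (Groth.Agent.H8.FieldDescent.Main.isRepresentable_of_iso
        (prod.mapIso (Iso.refl X) ((yon S).mapIso c.symm)) h))
  obtain ⟨a, ha⟩ := exists_stage (Alg.F pt.asIdeal) (Alg.ρ pt.asIdeal) (Alg.cocone pt.asIdeal L)
    (Alg.isColimit pt.asIdeal L) r (Alg.ρ_app_ι pt.asIdeal L) hX' hXq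
    (isQuasiSeparatedSp_jinv j hqs) hr
  refine ⟨a.el, a.mem, ?_⟩
  let U : Over (Spec A) := Over.mk (Spec.map (CommRingCat.ofHom (algebraMap A (Localization.Away a.el))))
  refine isRepresentable_of_jinv j (P := X ⨯ (yon S).obj ((Over.map j).obj U))
    (prod.snd ≫ (yon S).map (str j U)) ?_
  exact Groth.Agent.H8.FieldDescent.Main.isRepresentable_of_iso (prodIso j X U).symm ha

theorem ofPt_yon_map {S : Scheme.{u}} {T T' : Over S} (φ : T ⟶ T') (t : ↥T.left) :
    Points.ofPt ((yon S).map φ) t = Points.ofScheme T' (φ.left t) := by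
  have h := AlgSpace.ofPt_yon_map_comp φ (𝟙 ((yon S).obj T')) t
  rw [Category.comp_id] at h
  exact h.trans (by rw [Points.ofPt_eq_map_ofScheme, Points.map_id])

/-- A space over `S` which is a scheme over every local ring of `S` at the image of a point is a
scheme. -/
theorem isRepresentable {S : Scheme.{u}} {X : Sp S} (hX : IsAlgSpace X)
    (q : X ⟶ (yon S).obj (Over.mk (𝟙 S))) (hqc : AlgSp.IsQuasiCompactMor q)
    (hqs : IsQuasiSeparatedSp X)
    (h : ∀ x : Points X, (X ⨯ (yon S).obj (Over.mk (S.fromSpecStalk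
      ((Points.schemeHomeo (Over.mk (𝟙 S))).symm (Points.map q x))))).obj.IsRepresentable) :
    X.obj.IsRepresentable := by
  have hb : IsTerminal ((yon S).obj (Over.mk (𝟙 S))) := Over.mkIdTerminal.isTerminalObj (yon S)
  have sq : ∀ E : Over S, IsPullback (prod.fst : X ⨯ (yon S).obj E ⟶ X) prod.snd q (hb.from _) :=
    fun E => isPullback_of_yon (hb.hom_ext _ _) (fun U p q h1 h2 ↦ prod.hom_ext h1 h2)
      fun U p q _ ↦ ⟨prod.lift p q, prod.lift_fst _ _, prod.lift_snd _ _⟩
  have main : ∀ x : Points X, ∃ E : Over S, RepWith @IsOpenImmersion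
      (prod.fst : X ⨯ (yon S).obj E ⟶ X) ∧ (X ⨯ (yon S).obj E).obj.IsRepresentable ∧
        x ∈ Set.range (Points.map (prod.fst : X ⨯ (yon S).obj E ⟶ X)) := by
    intro x
    let s : S := (Points.schemeHomeo (Over.mk (𝟙 S))).symm (Points.map q x)
    obtain ⟨i, pt, hpt⟩ := S.affineCover.exists_eq s
    obtain ⟨A, ⟨eA⟩⟩ : ∃ A : CommRingCat.{u}, Nonempty (Spec A ≅ S.affineCover.X i) :=
      ⟨_, ⟨(S.affineCover.X i).isoSpec.symm⟩⟩
    let j : Spec A ⟶ S := eA.hom ≫ S.affineCover.f i
    let p₀ : Spec A := eA.inv pt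
    have hs : j p₀ = s := by
      show (eA.inv ≫ eA.hom ≫ S.affineCover.f i) pt = s
      rw [Iso.inv_hom_id_assoc]; exact hpt
    haveI : CompactSpace ↥(Over.mk j).left := inferInstanceAs (CompactSpace ↥(Spec A))
    haveI : CompactSpace (Points (X ⨯ (yon S).obj (Over.mk j))) :=
      AlgSpMor.QC.compactSpace_of_isQuasiCompactMor hqc (sq (Over.mk j))
    obtain ⟨f, hf, hrep⟩ := exists_basicOpen j p₀ hX hqs (by rw [hs]; exact h x)
    let E : Over S := Over.mk (Spec.map (CommRingCat.ofHom (algebraMap A (Localization.Away f))) ≫ j)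
    haveI : IsOpenImmersion (Spec.map (CommRingCat.ofHom (algebraMap A (Localization.Away f)))) :=
      inferInstance
    have hop : IsOpenImmersion (Over.homMk E.hom (Category.comp_id _) : E ⟶ Over.mk (𝟙 S)).left :=
      inferInstanceAs (IsOpenImmersion (_ ≫ j))
    refine ⟨E, AlgSpace.repWith_baseChange (sq E).flip ?_, hrep, ?_⟩
    · rw [show hb.from ((yon S).obj E) = (yon S).map (Over.homMk E.hom (Category.comp_id _)) from
        hb.hom_ext _ _]
      exact (AlgSp.repWith_yon_map_iff _ _).2 hop
    · obtain ⟨w, hw⟩ : p₀ ∈ Set.range (Spec.map (CommRingCat.ofHom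
          (algebraMap A (Localization.Away f)))) := by
        rw [Set.mem_range]
        have := PrimeSpectrum.localization_away_comap_range (Localization.Away f) f
        exact this.ge hf
      have hx : Points.map q x = Points.map (hb.from ((yon S).obj E)) (Points.ofScheme E w) := by
        rw [show hb.from ((yon S).obj E) = (yon S).map (Over.homMk E.hom (Category.comp_id _)) from
          hb.hom_ext _ _, ← Points.ofPt_eq_map_ofScheme]
        rw [show (Points.map q x) = Points.schemeHomeo (Over.mk (𝟙 S)) s from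
          ((Points.schemeHomeo (Over.mk (𝟙 S))).apply_symm_apply _).symm]
        rw [← hs, ← hw]
        rw [ofPt_yon_map]
        refine congrArg (Points.ofScheme (Over.mk (𝟙 S))) ?_
        exact (Scheme.Hom.comp_apply _ j w).symm
      obtain ⟨z, hz, -⟩ := AlgSpace.exists_of_isPullback (sq E) x _ hx
      exact ⟨z, hz⟩
  choose E hE hrep hx using main
  obtain ⟨U, a, -, hs⟩ := hX.atlas
  refine Groth.Agent.H8.FieldDescent.Main.isRepresentable_of_cover hX
    (fun u : U.left => hE (Points.ofPt a u)) (fun u => hrep _) fun x => ?_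
  obtain ⟨u, rfl⟩ := AlgSpace.surjective_ofPt hs x
  exact ⟨u, hx _⟩

end Groth.Agent.H8.LocalBaseRep.Main
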