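import Groth.Agent.Lib.Restrict.Slice
import Groth.Agent.Lib.Restrict.Spaces
import Groth.Agent.Lib.AlgSpMor.QC

/-! # Restriction of spaces along a monomorphism of bases -/

set_option autoImplicit false
set_option linter.style.haveILetI false
set_option backward.isDefEq.respectTransparency false
set_option backward.isDefEq.respectTransparency.types false

universe u

open CategoryTheory CategoryTheory.Limits AlgebraicGeometry Opposite
open AlgSp (Sp yon RepWith IsAlgSpace IsQuasiCompactSp IsQuasiSeparatedSp Points)
open Groth.Agent.Lib.Restrict Groth.Agent.Lib.AlgSpace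

namespace Groth.Agent.H8.LocalBaseRep.Mono

variable {S S' : Scheme.{u}} (g : S ⟶ S') [Mono g]

instance preservesLimits_jinv : PreservesLimitsOfSize.{0, 0} (jinv g) :=
  haveI : PreservesLimitsOfSize.{u, u} (jinv g) := (extAdj g).rightAdjoint_preservesLimits
  preservesLimitsOfSize_shrink _

/-- Maps of restricted schemes to the base of the restriction are unique. -/
theorem hom_ext_base {F : Sp S} (a b : F ⟶ (jinv g).obj ((yon S').obj (Over.mk g))) : a = b := by
  refine Groth.Agent.Lib.AlgSpace.hom_ext fun T c => adjT.injective ?_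
  obtain ⟨x, hx⟩ := (yon S').map_surjective (adjT (c ≫ a))
  obtain ⟨y, hy⟩ := (yon S').map_surjective (adjT (c ≫ b))
  rw [← hx, ← hy]
  refine congrArg _ (Over.OverMorphism.ext ((cancel_mono g).1 ?_))
  exact (Over.w x).trans (Over.w y).symm

/-- Restriction of a scheme already over the smaller base. -/
noncomputable def pullbackMapIso (U : Over S) : (Over.pullback g).obj ((Over.map g).obj U) ≅ U :=
  Over.isoMk
    { hom := pullback.fst (U.hom ≫ g) g
      inv := pullback.lift (𝟙 _) U.hom (Category.id_comp _)
      hom_inv_id := by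
        apply pullback.hom_ext
        · simp
        · rw [← cancel_mono g]
          simp [pullback.condition]
      inv_hom_id := pullback.lift_fst _ _ _ }
    (by
      rw [← cancel_mono g]
      show (pullback.fst (U.hom ≫ g) g ≫ U.hom) ≫ g = pullback.snd (U.hom ≫ g) g ≫ g
      rw [Category.assoc]
      exact pullback.condition)

/-- Restriction of a product with a scheme over the smaller base. -/
noncomputable def prodIso (X : Sp S') (U : Over S) :
    (jinv g).obj (X ⨯ (yon S').obj ((Over.map g).obj U)) ≅ (jinv g).obj X ⨯ (yon S).obj U :=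
  PreservesLimitPair.iso (jinv g) _ _ ≪≫
    prod.mapIso (Iso.refl _) ((jinvYon g _).symm ≪≫ (yon S).mapIso (pullbackMapIso g U))

omit [Mono g] in
/-- The restriction of a scheme is a scheme. -/
theorem isRepresentable_jinv {F : Sp S'} (h : F.obj.IsRepresentable) :
    ((jinv g).obj F).obj.IsRepresentable := by
  obtain ⟨T, ⟨hT⟩⟩ := h.has_representation
  exact (AlgSp.representableByOfIso (jinvYon g T ≪≫
    (jinv g).mapIso (AlgSp.isoOfRepresentableBy hT))).isRepresentable

/-- A space lying over the smaller base with representable restriction is a scheme. -/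
theorem isRepresentable_of_jinv {P : Sp S'} (π : P ⟶ (yon S').obj (Over.mk g))
    (h : ((jinv g).obj P).obj.IsRepresentable) : P.obj.IsRepresentable := by
  have sq : IsPullback (𝟙 ((jinv g).obj P)) (toPt _) ((jinv g).map π) (sect g) :=
    isPullback_of_yon (hom_ext_base g _ _)
      (fun T a b h1 _ => by rwa [Category.comp_id, Category.comp_id] at h1)
      fun T a b _ => ⟨a, Category.comp_id _, pt_hom_ext _ _⟩
  haveI := isIso_ofRestr sq
  obtain ⟨T, ⟨hT⟩⟩ := h.has_representation
  exact (AlgSp.representableByOfIso (extYon g T ≪≫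
    (extFunctor g).mapIso (AlgSp.isoOfRepresentableBy hT) ≪≫ asIso (ofRestr (𝟙 _)))).isRepresentable

/-- Restriction of a space quasi-compact over the smaller base. -/
theorem isQuasiCompactSp_jinv {P X : Sp S'} (hP : IsAlgSpace P) [CompactSpace (Points P)]
    (π : P ⟶ (yon S').obj (Over.mk g)) (p : P ⟶ X) (hp : IsIso ((jinv g).map p)) :
    IsQuasiCompactSp ((jinv g).obj X) := by
  obtain ⟨U, b, hU, he, hs⟩ := Groth.Agent.Lib.AlgSpMor.QC.exists_affine_atlas hP
  obtain ⟨φ, hφ⟩ := (yon S').map_surjective (b ≫ π)
  have hw : φ.left ≫ g = U.hom := Over.w φ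
  haveI : IsIso (pullback.fst U.hom g) :=
    ⟨pullback.lift (𝟙 _) φ.left (by rw [Category.id_comp, hw]), by
      apply pullback.hom_ext
      · simp
      · rw [← cancel_mono g]
        simp [pullback.condition, hw], pullback.lift_fst _ _ _⟩
  haveI : CompactSpace ↥((Over.pullback g).obj U).left :=
    (Scheme.homeoOfIso (asIso (pullback.fst U.hom g))).symm.compactSpace
  exact ⟨_, ((jinvYon g U).hom ≫ (jinv g).map b) ≫ (jinv g).map p,
    MorphismProperty.RespectsIso.postcomp _ _ _
      (MorphismProperty.RespectsIso.precomp _ _ _ (repWith_jinv he)),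
    MorphismProperty.RespectsIso.postcomp _ _ _
      (MorphismProperty.RespectsIso.precomp _ _ _ (repWith_jinv hs)), inferInstance⟩

omit [Mono g] in
/-- Restriction of a quasi-separated space. -/
theorem isQuasiSeparatedSp_jinv [PreservesLimitsOfSize.{0, 0} (jinv g)] {X : Sp S'}
    (h : IsQuasiSeparatedSp X) : IsQuasiSeparatedSp ((jinv g).obj X) := by
  have e : Limits.diag ((jinv g).obj X) =
      (jinv g).map (Limits.diag X) ≫ (PreservesLimitPair.iso (jinv g) X X).hom := by
    apply prod.hom_ext
    · rw [prod.lift_fst, Category.assoc, PreservesLimitPair.iso_hom, prodComparison_fst,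
        ← Functor.map_comp, prod.lift_fst, CategoryTheory.Functor.map_id]
    · rw [prod.lift_snd, Category.assoc, PreservesLimitPair.iso_hom, prodComparison_snd,
        ← Functor.map_comp, prod.lift_snd, CategoryTheory.Functor.map_id]
  show RepWith @QuasiCompact (Limits.diag ((jinv g).obj X))
  rw [e]
  exact MorphismProperty.RespectsIso.postcomp _ _ _ (repWith_jinv h)

/-- Projection from the product with the smaller base restricts to an isomorphism. -/
theorem isIso_jinv_fst (X : Sp S') :
    IsIso ((jinv g).map (prod.fst : X ⨯ (yon S').obj (Over.mk g) ⟶ X)) := by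
  refine ⟨prod.lift (𝟙 _) (toPt _ ≫ sect g) ≫ (PreservesLimitPair.iso (jinv g) X _).inv, ?_, ?_⟩
  · rw [← cancel_mono (PreservesLimitPair.iso (jinv g) X _).hom]
    simp only [Category.assoc, Iso.inv_hom_id, Category.comp_id, Category.id_comp,
      PreservesLimitPair.iso_hom]
    refine prod.hom_ext ?_ (hom_ext_base g _ _)
    simp
  · rw [Category.assoc, ← cancel_epi (𝟙 ((jinv g).obj X)), Category.id_comp]
    rw [show (PreservesLimitPair.iso (jinv g) X ((yon S').obj (Over.mk g))).inv ≫ (jinv g).map prod.fst =
      prod.fst from (Iso.inv_comp_eq _).2 (by simp)]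
    simp

end Groth.Agent.H8.LocalBaseRep.Mono
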